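import Mathlib

/-! Frobenius-type groups with homocyclic kernel of exponent `a` and cyclic complement of order `b`. -/

set_option autoImplicit false

namespace CZ

open Polynomial

theorem ord_of_dvd {G : Type*} [Group G] {g : G} {d : ℕ} (h0 : orderOf g ≠ 0) (h : d ∣ orderOf g) :
    d ∈ Set.range (orderOf : G → ℕ) := ⟨g ^ (orderOf g / d), orderOf_pow_orderOf_div h0 h⟩

theorem sd_pow_eq_one {N G : Type*} [CommGroup N] [Group G] {φ : G →* MulAut N} (x : N ⋊[φ] G)
    (hfree : ∀ n, φ x.right n = n → n = 1) {k : ℕ} (hk : x.right ^ k = 1) : x ^ k = 1 := by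
  have h1 : (x ^ k).right = 1 := by
    have := map_pow (SemidirectProduct.rightHom (φ := φ)) x k
    simpa [hk] using this
  have h2 : x * x ^ k = x ^ k * x := by rw [← pow_succ, ← pow_succ']
  have h3 := congrArg SemidirectProduct.left h2
  simp only [SemidirectProduct.mul_left, h1, map_one, MulAut.one_apply] at h3
  rw [mul_comm ((x ^ k).left)] at h3
  have h4 := hfree _ (mul_left_cancel h3)
  ext
  · exact h4
  · exact h1

theorem exists_ring (a b : ℕ) (ha : 1 < a) (hb : 0 < b) (hab : a.Coprime b) :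
    ∃ (R : Type) (_ : CommRing R) (_ : Finite R) (u : Rˣ), addOrderOf (1 : R) = a ∧ u ^ b = 1 ∧
      ∀ k, ¬ b ∣ k → ∀ x : R, (u : R) ^ k * x = x → x = 0 := by
  haveI : Fact (1 < a) := ⟨ha⟩
  haveI : NeZero a := ⟨by omega⟩
  have hm : (cyclotomic b (ZMod a)).Monic := cyclotomic.monic b _
  let pb := AdjoinRoot.powerBasis' hm
  let R := AdjoinRoot (cyclotomic b (ZMod a))
  haveI : Module.Finite (ZMod a) R := pb.finite
  haveI : Finite R := Module.finite_of_finite (ZMod a)
  let z : R := AdjoinRoot.root _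
  have hz : aeval z (cyclotomic b ℤ) = 0 := by
    rw [← aeval_map_algebraMap (ZMod a), map_cyclotomic]
    exact AdjoinRoot.aeval_eq _ |>.trans AdjoinRoot.mk_self
  have hzb : z ^ b = 1 := by
    obtain ⟨c, hc⟩ := cyclotomic.dvd_X_pow_sub_one b ℤ
    have := congrArg (aeval z) hc
    simp only [map_sub, map_pow, aeval_X, map_one, map_mul, hz, zero_mul] at this
    exact sub_eq_zero.1 this
  have hinj : ∀ n : ℕ, (n : R) = 0 → a ∣ n := by
    intro n hn
    have hd : 0 < pb.dim := by
      show 0 < (cyclotomic b (ZMod a)).natDegree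
      rw [natDegree_cyclotomic]
      exact Nat.totient_pos.2 hb
    have h1 : pb.basis ⟨0, hd⟩ = 1 := by rw [pb.basis_eq_pow]; simp
    have h2 : ((n : ZMod a) • pb.basis ⟨0, hd⟩ : R) = 0 := by
      rw [h1, Nat.cast_smul_eq_nsmul, nsmul_one]; exact hn
    have h3 := congrArg (fun v => pb.basis.repr v ⟨0, hd⟩) h2
    simp only [map_smul, Module.Basis.repr_self, Finsupp.smul_apply, Finsupp.single_eq_same, smul_eq_mul, mul_one,
      map_zero, Finsupp.zero_apply] at h3
    exact (ZMod.natCast_eq_zero_iff n a).1 h3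
  have ha0 : (a : R) = 0 := by
    rw [← map_natCast (algebraMap (ZMod a) R), ZMod.natCast_self, map_zero]
  refine ⟨R, inferInstance, inferInstance, Units.ofPowEqOne z b hzb hb.ne', ?_, Units.ext (by simpa using hzb), ?_⟩
  · apply Nat.dvd_antisymm
    · exact addOrderOf_dvd_of_nsmul_eq_zero (by rw [nsmul_one]; exact ha0)
    · apply hinj
      rw [← nsmul_one]; exact addOrderOf_nsmul_eq_zero _
  · intro k hk x hx
    change z ^ k * x = x at hx
    set g := Nat.gcd k b with hg
    have hgb : g ∣ b := Nat.gcd_dvd_right k b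
    have hglt : g < b := lt_of_le_of_ne (Nat.le_of_dvd hb hgb) fun e => hk (e ▸ Nat.gcd_dvd_left k b)
    have hg0 : 0 < g := Nat.gcd_pos_of_pos_right k hb
    have hpk : ∀ i : ℕ, (z ^ k) ^ i * x = x := by
      intro i
      induction i with
      | zero => simp
      | succ i ih => rw [pow_succ, mul_assoc, hx, ih]
    have hgx : z ^ g * x = x := by
      obtain ⟨m, -, hm'⟩ := Nat.exists_mul_mod_eq_gcd (n := k) (k := b) hglt
      have := hpk m
      rw [← pow_mul, ← Nat.mod_add_div (k * m) b, pow_add, pow_mul, hzb, one_pow, mul_one, hm'] at this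
      exact this
    have hpg : ∀ i : ℕ, (z ^ g) ^ i * x = x := by
      intro i
      induction i with
      | zero => simp
      | succ i ih => rw [pow_succ, mul_assoc, hgx, ih]
    obtain ⟨c, hc⟩ := hgb
    have hdv := X_pow_sub_one_mul_cyclotomic_dvd_X_pow_sub_one_of_dvd ℤ
      (Nat.mem_properDivisors.2 ⟨⟨c, hc⟩, hglt⟩)
    have hgs : (X ^ b - 1 : ℤ[X]) = (X ^ g - 1) * ∑ i ∈ Finset.range c, (X ^ g) ^ i := by
      rw [mul_geom_sum, ← pow_mul, ← hc]
    rw [hgs] at hdv
    have hne : (X ^ g - 1 : ℤ[X]) ≠ 0 := by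
      have := X_pow_sub_C_ne_zero (R := ℤ) hg0 1
      simpa using this
    obtain ⟨e, he⟩ := (mul_dvd_mul_iff_left hne).1 hdv
    have h0 := congrArg (aeval z) he
    simp only [map_sum, map_pow, aeval_X, map_mul, hz, zero_mul] at h0
    have h1 : (c : R) * x = 0 := by
      have h2 : (∑ i ∈ Finset.range c, (z ^ g) ^ i) * x = 0 := by rw [h0, zero_mul]
      rw [Finset.sum_mul, Finset.sum_congr rfl fun i _ => hpg i, Finset.sum_const, Finset.card_range,
        nsmul_eq_mul] at h2
      exact h2
    have hcop : IsCoprime (a : R) (c : R) := by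
      have : a.Coprime c := hab.coprime_dvd_right (Dvd.intro_left _ hc.symm)
      simpa using (Nat.isCoprime_iff_coprime.2 this).map (Int.castRingHom R)
    obtain ⟨s, t, hst⟩ := hcop
    rw [ha0, mul_zero, zero_add] at hst
    rw [← one_mul x, ← hst, mul_assoc, h1, mul_zero]

theorem exists_FAB (a b : ℕ) (ha : 1 < a) (hb : 0 < b) (hab : a.Coprime b) :
    ∃ (H : Type) (_ : Group H) (_ : Finite H) (A : Subgroup H), Group.IsSolvable H ∧ (∀ x ∈ A, ∀ y ∈ A, Commute x y) ∧
      (∀ x, x ∉ A → orderOf x ∣ b) ∧ Set.range (orderOf : H → ℕ) = {d | d ∣ a ∨ d ∣ b} := by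
  obtain ⟨R, _, _, u, h1, hu, hf⟩ := exists_ring a b ha hb hab
  let φ : Subgroup.zpowers u →* MulAut (Multiplicative R) :=
    (MulAutMultiplicative R).symm.toMonoidHom.comp
      ((DistribMulAction.toAddAut Rˣ R).comp (Subgroup.zpowers u).subtype)
  have hφ : ∀ (g : Subgroup.zpowers u) (n : Multiplicative R),
      φ g n = Multiplicative.ofAdd (((g : Rˣ) : R) * n.toAdd) := fun _ _ => rfl
  have h10 : (1 : R) ≠ 0 := fun e => by rw [e, addOrderOf_zero] at h1; omega
  have hou : orderOf u = b := by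
    refine Nat.dvd_antisymm (orderOf_dvd_of_pow_eq_one hu) ?_
    by_contra h
    refine h10 (hf _ h 1 ?_)
    rw [← Units.val_pow_eq_pow_val, pow_orderOf_eq_one]; simp
  have hfree : ∀ g : Subgroup.zpowers u, g ≠ 1 → ∀ n, φ g n = n → n = 1 := by
    intro g hg n hn
    obtain ⟨k, hk⟩ := (mem_powers_iff_mem_zpowers (x := u)).2 g.2
    have : ¬ b ∣ k := fun h => hg (Subtype.ext (by
      rw [← hk]; exact orderOf_dvd_iff_pow_eq_one.1 (hou ▸ h)))
    rw [hφ, ← hk] at hn
    exact hf k this n.toAdd (by simpa using congrArg Multiplicative.toAdd hn)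
  haveI : Finite (Multiplicative R ⋊[φ] Subgroup.zpowers u) :=
    Finite.of_equiv _ SemidirectProduct.equivProd.symm
  have hb' : ∀ g : Subgroup.zpowers u, g ^ b = 1 := fun g => by
    rw [← hou, ← Nat.card_zpowers]; exact pow_card_eq_one'
  have hout : ∀ x : Multiplicative R ⋊[φ] Subgroup.zpowers u, x ∉ (SemidirectProduct.inl (φ := φ)).range →
      orderOf x ∣ b := by
    intro x hx
    rw [SemidirectProduct.range_inl_eq_ker_rightHom] at hx
    exact orderOf_dvd_of_pow_eq_one (sd_pow_eq_one x (hfree _ hx) (hb' _))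
  refine ⟨Multiplicative R ⋊[φ] Subgroup.zpowers u, inferInstance, inferInstance, (SemidirectProduct.inl (φ := φ)).range,
    ?_, ?_, hout, ?_⟩
  · letI : CommGroup (Subgroup.zpowers u) := inferInstance
    exact solvable_of_ker_le_range (SemidirectProduct.inl (φ := φ)) SemidirectProduct.rightHom
      (by rw [SemidirectProduct.range_inl_eq_ker_rightHom])
  · rintro _ ⟨x, rfl⟩ _ ⟨y, rfl⟩
    exact (Commute.all x y).map _
  · ext d
    constructor
    · rintro ⟨x, rfl⟩
      by_cases hx : x ∈ (SemidirectProduct.inl (φ := φ)).range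
      · obtain ⟨n, rfl⟩ := hx
        left
        apply orderOf_dvd_of_pow_eq_one
        rw [← map_pow, map_eq_one_iff _ SemidirectProduct.inl_injective]
        apply Multiplicative.toAdd.injective
        rw [toAdd_pow, toAdd_one, ← h1, ← mul_one n.toAdd, ← mul_smul_comm, addOrderOf_nsmul_eq_zero, mul_zero]
      · exact Or.inr (hout x hx)
    · rintro (h | h)
      · refine ord_of_dvd (g := SemidirectProduct.inl (Multiplicative.ofAdd (1 : R))) (orderOf_pos _).ne' ?_
        rw [orderOf_injective _ SemidirectProduct.inl_injective, orderOf_ofAdd_eq_addOrderOf, h1]; exact h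
      · refine ord_of_dvd (g := SemidirectProduct.inr ⟨u, Subgroup.mem_zpowers u⟩) (orderOf_pos _).ne' ?_
        rw [orderOf_injective _ SemidirectProduct.inr_injective, Subgroup.orderOf_mk, hou]; exact h

end CZ
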